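import Groth.Prelude.Def_Red
import Groth.Agent.Sga3B.BcPts
import Mathlib.AlgebraicGeometry.Morphisms.Flat
import Mathlib.CategoryTheory.Endomorphism

/-!
# Serre's lemma: reduction to a flat surjective base change
-/

set_option autoImplicit false

universe u

open CategoryTheory Limits MonoidalCategory CartesianMonoidalCategory MonObj GrpObj AlgebraicGeometry

namespace Groth.Agent.Sga7.H758.Descend

open Groth.Agent.Sga3B.BcPts

variable {S S' : Scheme.{u}} (f : S' ⟶ S)

/-- flat surjective base change is faithful. -/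
theorem map_injective [Flat f] [Surjective f] {X Y : Over S} (g h : X ⟶ Y)
    (e : (Over.pullback f).map g = (Over.pullback f).map h) : g = h := by
  have h1 : Flat (pullback.fst X.hom f) := inferInstance
  have h2 : Surjective (pullback.fst X.hom f) := inferInstance
  have h3 : Epi (pullback.fst X.hom f) := Flat.epi_of_flat_of_surjective _
  ext1
  rw [← cancel_epi (pullback.fst X.hom f)]
  have h4 : ∀ g : X ⟶ Y, pullback.fst X.hom f ≫ g.left =
      ((Over.pullback f).map g).left ≫ pullback.fst Y.hom f := by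
    intro g
    exact (pullback.lift_fst _ _ _).symm
  rw [h4, h4, e]

theorem descend [Flat f] [Surjective f] (G : Over S) [GrpObj G] (n : ℕ) (u : Aut G)
    [IsMonHom u.hom] (N : ℕ) (huN : u ^ N = 1)
    (hu : ∀ (T : Over S) (x : T ⟶ G), x ^ n = 1 → x ≫ u.hom = x)
    (H : ∀ (v : Aut (Red.bc f G)) (_ : IsMonHom v.hom), v ^ N = 1 →
      (∀ (T : Over S') (x : T ⟶ Red.bc f G), x ^ n = 1 → x ≫ v.hom = x) →
      (3 ≤ n → v = 1) ∧ (n = 2 → v * v = 1)) : (3 ≤ n → u = 1) ∧ (n = 2 → u * u = 1) := by
  have hinj : Function.Injective ((Over.pullback f).mapAut G) := by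
    intro a b hab
    apply Iso.ext
    exact map_injective f _ _ (congrArg Iso.hom hab)
  let v : Aut (Red.bc f G) := (Over.pullback f).mapAut G u
  have hv : IsMonHom v.hom := inferInstanceAs (IsMonHom ((Over.pullback f).map u.hom))
  obtain ⟨h1, h2⟩ := H v hv (by rw [← map_pow, huN, map_one]) (fun T x hx => by
    have h3 : ((bcMulEquiv f T G).symm x) ^ n = 1 := by rw [← map_pow, hx, map_one]
    have h4 := hu _ _ h3
    have h5 := congrArg (bcEquiv f T G) h4
    rw [bcEquiv_comp] at h5
    have h6 : bcEquiv f T G ((bcMulEquiv f T G).symm x) = x := (bcMulEquiv f T G).apply_symm_apply x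
    rw [h6] at h5
    exact h5)
  refine ⟨fun h3 => hinj ?_, fun h3 => hinj ?_⟩
  · rw [map_one]; exact h1 h3
  · rw [map_one, map_mul]; exact h2 h3

end Groth.Agent.Sga7.H758.Descend
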