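import Groth.Agent.Sga7.H758.AlgClosed
import Groth.Agent.Sga7.H758.Descend

/-!
# S4078 from the torsion input
-/

set_option autoImplicit false

universe u

open CategoryTheory Limits MonoidalCategory CartesianMonoidalCategory MonObj GrpObj AlgebraicGeometry

namespace Groth.Agent.Sga7.H758.S4078_of

open AlgClosed

theorem main (hT : ∀ (K : Type u) [Field K] [IsAlgClosed K], TorsionInput K)
    (k : Type u) [Field k] (G : Over (Spec (CommRingCat.of k))) [GrpObj G]
    [IsCommMonObj G] [Smooth G.hom] [ConnectedSpace ↥G.left] (hG : SGA7.FibresUnipotentRankZero G)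
    (n : ℕ) (hn : 2 ≤ n) (u : Aut G) [IsMonHom u.hom] (N : ℕ) (hN : 0 < N) (huN : u ^ N = 1)
    (hu : ∀ (T : Over (Spec (CommRingCat.of k))) (x : T ⟶ G), x ^ n = 1 → x ≫ u.hom = x) :
    (3 ≤ n → u = 1) ∧ (n = 2 → u * u = 1) := by
  let s : Spec (CommRingCat.of k) := IsLocalRing.closedPoint k
  have hsub : Subsingleton (Spec (CommRingCat.of k)) := inferInstanceAs (Subsingleton (PrimeSpectrum k))
  have hflat : Flat (Red.geomPt s) := inferInstance
  have hsurj : Surjective (Red.geomPt s) := ⟨fun x => ⟨IsLocalRing.closedPoint _, Subsingleton.elim _ _⟩⟩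
  refine Descend.descend (Red.geomPt s) G n u N huN hu fun v hv hvN hv' => ?_
  have h1 : Smooth (Red.bc (Red.geomPt s) G).hom := inferInstanceAs (Smooth (pullback.snd G.hom (Red.geomPt s)))
  let _ : GrpObj (Over.mk G.hom) := inferInstanceAs (GrpObj G)
  have h2 : GeometricallyIrreducible G.hom := Sga3C.GrpIrr.geometricallyIrreducible_of_connectedSpace G.hom
  have h3 : IrreducibleSpace (Red.bc (Red.geomPt s) G).left := by
    have : GeometricallyIrreducible (pullback.snd G.hom (Red.geomPt s)) := inferInstance
    exact GeometricallyIrreducible.irreducibleSpace_of_subsingleton (pullback.snd G.hom (Red.geomPt s))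
  have h4 : ConnectedSpace (Red.bc (Red.geomPt s) G).left := inferInstance
  exact serre (hT _) (fun j hj hj' => hG s j hj hj') n hn v hv N hN hvN hv'

end Groth.Agent.Sga7.H758.S4078_of
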