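import Groth.Agent.Sga3C.ArtinHom
import Groth.Agent.Sga3C.FlatImage
import Groth.Agent.Desc.DimMap
import Groth.Agent.VarietyB.DimSch
import Groth.Agent.Grpsch.KerMul
import Groth.Agent.Grpsch.QFin
import Groth.Agent.Sga3C.GrpIrr
import Groth.Agent.Flat2B.SmoothGeom

/-!
# Homomorphisms with finite kernel over an algebraically closed field

* `eq_const`: a morphism from a connected reduced scheme locally of finite type to a locally quasi-finite one is
  constant;
* `isFinite_of_isFinite_ker`, `surjective_flat_of_isFinite_ker`: an endomorphism with finite kernel of a smooth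
  connected group scheme is finite, surjective and flat.
-/

set_option autoImplicit false

universe u

open CategoryTheory Limits MonoidalCategory CartesianMonoidalCategory MonObj GrpObj AlgebraicGeometry

namespace Groth.Agent.Sga7.H758.FieldHom

section

attribute [local instance] specializationOrder

/-- A continuous self-map of an irreducible sober space of finite dimension which is closed and has no
proper specialisations in its fibres is surjective. (Same as in `Sga5.AmpleFib`, with fewer imports.) -/
theorem surjective_of_fibres {T : Type*} [TopologicalSpace T] [QuasiSober T] [T0Space T]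
    [IrreducibleSpace T] (d : ℕ) (hd : topologicalKrullDim T = d)
    (f : T → T) (hf : Continuous f) (hcl : IsClosed (Set.range f))
    (h : ∀ x y : T, x ⤳ y → f x = f y → x = y) : Function.Surjective f := by
  rw [Groth.Agent.Desc.DimMap.topologicalKrullDim_eq] at hd
  obtain ⟨l, hl⟩ := Order.le_krullDim_iff.mp hd.ge
  have hmono : StrictMono f := by
    intro x y hxy
    have h1 : y ⤳ x := hxy.le
    refine lt_of_le_of_ne (h1.map hf) ?_
    intro h2
    exact hxy.ne (h y x h1 h2.symm).symm
  by_contra hcon
  have hη : f (genericPoint T) ≠ genericPoint T := by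
    intro h0
    apply hcon
    rw [← Set.range_eq_univ, Set.eq_univ_iff_forall]
    intro x
    have h1 : genericPoint T ⤳ x := genericPoint_specializes x
    exact h1.mem_closed hcl ⟨_, h0⟩
  have hlt : ∀ x : T, f x < genericPoint T := by
    intro x
    have h1 : f x ≤ f (genericPoint T) := (genericPoint_specializes x).map hf
    refine lt_of_le_of_lt h1 (lt_of_le_of_ne (genericPoint_specializes _) hη)
  let l' : LTSeries T := (l.map f hmono).snoc (genericPoint T) (hlt _)
  have hl' : l'.length = d + 1 := by
    simp [l', hl]
  have h1 := Order.LTSeries.length_le_krullDim l'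
  rw [hd, hl'] at h1
  have h2 : d + 1 ≤ d := by exact_mod_cast h1
  omega

end

/-- A finite endomorphism of an irreducible scheme locally of finite type over a field is surjective. -/
theorem surjective_of_isFinite (K : Type u) [Field K] {X : Scheme.{u}} (p : X ⟶ Spec (CommRingCat.of K))
    [LocallyOfFiniteType p] [IrreducibleSpace X] (f : X ⟶ X) [IsFinite f] : Surjective f := by
  constructor
  let _ : X.Over (Spec (CommRingCat.of K)) := ⟨p⟩
  have : LocallyOfFiniteType (X ↘ Spec (CommRingCat.of K)) := inferInstanceAs (LocallyOfFiniteType p)
  refine surjective_of_fibres _ (Groth.Agent.VarietyB.DimSch.topologicalKrullDim_eq_trd K) f.base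
    f.continuous f.isClosedMap.isClosed_range ?_
  intro x y hxy hf
  have h1 := f.isDiscrete_preimage_singleton (f.base y)
  have h2 : DiscreteTopology (f.base ⁻¹' {f.base y}) := h1.to_subtype
  let x' : (f.base ⁻¹' {f.base y}) := ⟨x, hf⟩
  let y' : (f.base ⁻¹' {f.base y}) := ⟨y, rfl⟩
  have h3 : x' ⤳ y' := Topology.IsInducing.subtypeVal.specializes_iff.mp hxy
  exact congrArg Subtype.val h3.eq

/-- A homomorphism of group schemes over a field which is quasi-compact and surjective onto a
reduced locally noetherian group scheme is flat. -/
theorem flat_of_surjective (K : Type u) [Field K] {G H : Over (Spec (CommRingCat.of K))}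
    [GrpObj G] [GrpObj H] (f : G ⟶ H) [IsMonHom f] [QuasiCompact f.left] [Surjective f.left]
    [IsReduced H.left] [IsLocallyNoetherian H.left] : Flat f.left := by
  have h1 : Subsingleton ↥(Spec (CommRingCat.of K)) := inferInstanceAs (Subsingleton (PrimeSpectrum K))
  have h2 : ∀ X : Scheme.{u}, ∀ g : X ⟶ Spec (CommRingCat.of K), Flat g := fun X g => by
    infer_instance
  have h3 : Flat G.hom := h2 _ _
  have h4 : IsSchemeTheoreticallyDominant f.left := .of_isDominant _
  exact Sga3C.FlatImage.flat_of_flat_ker f (h2 _ _) f (𝟙 H) (Category.comp_id f)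

variable {K : Type u} [Field K]

/-- A morphism from a connected reduced scheme locally of finite type over an algebraically closed field to a
separated locally quasi-finite one is constant. -/
theorem eq_const [IsAlgClosed K] {X F : Over (Spec (CommRingCat.of K))} [LocallyOfFiniteType X.hom]
    [IsReduced X.left] [ConnectedSpace X.left] [IsSeparated F.hom] [LocallyOfFiniteType F.hom]
    [LocallyQuasiFinite F.hom]
    (e : 𝟙_ (Over (Spec (CommRingCat.of K))) ⟶ X) (y : X ⟶ F) : y = toUnit X ≫ e ≫ y := by
  have hdisc : DiscreteTopology F.left := by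
    let s : Spec (CommRingCat.of K) := IsLocalRing.closedPoint K
    have h1 := F.hom.isDiscrete_preimage_singleton s
    have h2 : F.hom ⁻¹' {s} = Set.univ :=
      Set.eq_univ_of_forall fun a => Subsingleton.elim (α := PrimeSpectrum K) _ _
    rw [h2] at h1
    have h3 : DiscreteTopology (Set.univ : Set F.left) := h1.to_subtype
    exact (Homeomorph.Set.univ F.left).symm.isEmbedding.discreteTopology
  ext1
  have h1 : y.left ≫ F.hom = X.hom := Over.w y
  have h2 : LocallyOfFiniteType (y.left ≫ F.hom) := by rw [h1]; infer_instance
  refine ext_of_apply_eq F.hom Set.univ isOpen_univ.isLocallyClosed dense_univ (fun x _ hx => ?_) ?_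
  · have hconst : ∀ a b : X.left, y.left a = y.left b := fun a b =>
      PreconnectedSpace.constant inferInstance y.left.continuous
    have h3 : (toUnit X ≫ e ≫ y).left x = y.left (e.left ((toUnit X).left x)) := by
      rw [Over.comp_left, Over.comp_left, Scheme.Hom.comp_apply, Scheme.Hom.comp_apply]
    rw [h3]
    exact hconst _ _
  · rw [Over.w, Over.w]

section

variable {G : Over (Spec (CommRingCat.of K))} [GrpObj G]

/-- the kernel with its scheme structure. -/
theorem isPullback_left {H F : Over (Spec (CommRingCat.of K))} [GrpObj H] (f : G ⟶ H) (i : F ⟶ G)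
    (h : IsPullback i (toUnit F) f η[H]) :
    IsPullback i.left F.hom f.left (η[H] : 𝟙_ (Over (Spec (CommRingCat.of K))) ⟶ H).left := by
  have := h.map (Over.forget _)
  have h2 : (toUnit F).left = F.hom := by
    have := Over.w (toUnit F)
    exact (Category.comp_id _).symm.trans this
  rw [← h2]
  exact this

theorem isFinite_of_isFinite_ker {H F : Over (Spec (CommRingCat.of K))} [GrpObj H] [LocallyOfFiniteType G.hom]
    [LocallyOfFiniteType H.hom] (f : G ⟶ H) [IsMonHom f] [QuasiCompact f.left] (i : F ⟶ G)
    (h : IsPullback i (toUnit F) f η[H]) [IsFinite F.hom] : IsFinite f.left := by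
  have hpb := isPullback_left f i h
  have h1 : IsFinite (pullback.snd f.left (η[H] : 𝟙_ (Over (Spec (CommRingCat.of K))) ⟶ H).left) := by
    have h2 : hpb.isoPullback.inv ≫ F.hom =
        pullback.snd f.left (η[H] : 𝟙_ (Over (Spec (CommRingCat.of K))) ⟶ H).left :=
      hpb.isoPullback_inv_snd
    rw [← h2]
    infer_instance
  have h3 : IsProper f.left := (Sga3C.ArtinHom.isProper_iff f).mpr inferInstance
  obtain ⟨d, hd⟩ := Sga3C.KerSquare.isPullback_fst_ker f
  have h4 : IsFinite (pullback.fst f.left f.left) :=
    MorphismProperty.of_isPullback (P := @IsFinite) hd.flip h1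
  have h5 : LocallyQuasiFinite f.left := by
    refine .of_finite_preimage_singleton _ fun y => ?_
    by_cases hy : y ∈ Set.range f.left
    · obtain ⟨x, rfl⟩ := hy
      refine Groth.Agent.Grpsch.QFin.finite_preimage_of_isPullback'
        (IsPullback.of_hasPullback f.left f.left).flip x ?_
      exact (pullback.fst f.left f.left).finite_preimage_singleton x
    · have : f.left ⁻¹' {y} = ∅ := by
        ext x
        simp only [Set.mem_preimage, Set.mem_singleton_iff, Set.mem_empty_iff_false, iff_false]
        exact fun hx => hy ⟨x, hx⟩
      rw [this]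
      exact Set.finite_empty
  exact IsFinite.of_isProper_of_locallyQuasiFinite f.left

/-- An endomorphism with finite kernel of a smooth connected group scheme is finite, surjective and flat. -/
theorem surjective_flat_of_isFinite_ker {F : Over (Spec (CommRingCat.of K))} [Smooth G.hom]
    [ConnectedSpace G.left] (f : G ⟶ G) [IsMonHom f] [QuasiCompact f.left] (i : F ⟶ G)
    (h : IsPullback i (toUnit F) f η[G]) [IsFinite F.hom] :
    IsFinite f.left ∧ Surjective f.left ∧ Flat f.left := by
  have h1 := isFinite_of_isFinite_ker f i h
  let _ : GrpObj (Over.mk G.hom) := inferInstanceAs (GrpObj G)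
  have h2 : GeometricallyIrreducible G.hom := Sga3C.GrpIrr.geometricallyIrreducible_of_connectedSpace G.hom
  have h3 : IrreducibleSpace G.left := GeometricallyIrreducible.irreducibleSpace_of_subsingleton G.hom
  have h4 : Surjective f.left := surjective_of_isFinite K G.hom _
  have h5 : IsLocallyNoetherian G.left :=
    LocallyOfFiniteType.isLocallyNoetherian (Y := Spec (CommRingCat.of K)) G.hom
  have h6 : IsReduced G.left := Flat2B.SmoothGeom.isReduced_of_smooth G.hom
  exact ⟨h1, h4, flat_of_surjective K f⟩

end

end Groth.Agent.Sga7.H758.FieldHom
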