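import Mathlib.CategoryTheory.Monoidal.Cartesian.CommGrp_
import Mathlib.Algebra.Ring.Defs
import Mathlib.Algebra.Group.Basic
import Mathlib.Tactic

/-!
# The ring of endomorphisms of a commutative group object

`EndHom G` is the type of endomorphisms of a commutative group object `G` (in a cartesian monoidal category)
which are homomorphisms; addition is the pointwise product, multiplication is composition.
-/

set_option autoImplicit false

universe v u

open CategoryTheory MonoidalCategory CartesianMonoidalCategory MonObj GrpObj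

namespace Groth.Agent.Sga7.H758.EndRing

variable {C : Type u} [Category.{v} C] [CartesianMonoidalCategory C] [BraidedCategory C]

/-- A morphism of group objects is a homomorphism if it is multiplicative on points. -/
theorem isMonHom_of_mul {A B : C} [GrpObj A] [GrpObj B] (f : A ⟶ B)
    (h : ∀ {T : C} (a b : T ⟶ A), (a * b) ≫ f = (a ≫ f) * (b ≫ f)) : IsMonHom f := by
  have h1 : η[A] ≫ f = η[B] := by
    have := h (η[A]) (η[A])
    rw [one_eq_one, _root_.mul_one] at this
    rw [one_eq_one, one_eq_one]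
    exact (mul_eq_left.mp this.symm)
  refine ⟨h1, ?_⟩
  have := h (fst A A) (snd A A)
  rw [← MonObj.mul_eq_mul] at this
  rw [this, Hom.mul_def]
  congr 1
  ext <;> simp

section

variable {A B D : C} [GrpObj A] [GrpObj B] [GrpObj D] [IsCommMonObj B]

theorem isMonHom_mul (f g : A ⟶ B) [IsMonHom f] [IsMonHom g] : IsMonHom (f * g) :=
  isMonHom_of_mul _ fun a b => by
    rw [comp_mul, comp_mul, comp_mul, MonObj.mul_comp, MonObj.mul_comp, _root_.mul_mul_mul_comm]

theorem isMonHom_one : IsMonHom (1 : A ⟶ B) :=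
  isMonHom_of_mul _ fun a b => by
    rw [comp_one, comp_one, comp_one, _root_.mul_one]

theorem isMonHom_inv (f : A ⟶ B) [IsMonHom f] : IsMonHom (f⁻¹) :=
  isMonHom_of_mul _ fun a b => by
    rw [comp_inv, comp_inv, comp_inv, MonObj.mul_comp, _root_.mul_inv]

theorem isMonHom_pow (f : A ⟶ B) [IsMonHom f] (n : ℕ) : IsMonHom (f ^ n) :=
  isMonHom_of_mul _ fun a b => by
    rw [comp_pow, comp_pow, comp_pow, MonObj.mul_comp, mul_pow]

end

/-- Endomorphisms (homomorphisms) of a commutative group object. -/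
@[ext]
structure EndHom (G : C) [GrpObj G] where
  /-- the underlying morphism -/
  hom : G ⟶ G
  isMonHom : IsMonHom hom

attribute [instance] EndHom.isMonHom

variable {G : C} [GrpObj G] [IsCommMonObj G]

namespace EndHom

instance : Zero (EndHom G) := ⟨⟨1, isMonHom_one⟩⟩
instance : One (EndHom G) := ⟨⟨𝟙 G, inferInstance⟩⟩
instance : Add (EndHom G) := ⟨fun a b => ⟨a.hom * b.hom, isMonHom_mul _ _⟩⟩
instance : Neg (EndHom G) := ⟨fun a => ⟨a.hom⁻¹, isMonHom_inv _⟩⟩
instance : Sub (EndHom G) := ⟨fun a b => ⟨a.hom * b.hom⁻¹,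
  have := isMonHom_inv b.hom; isMonHom_mul _ _⟩⟩
/-- `a * b` is "first `b`, then `a`". -/
instance : Mul (EndHom G) := ⟨fun a b => ⟨b.hom ≫ a.hom, inferInstance⟩⟩
instance : SMul ℕ (EndHom G) := ⟨fun n a => ⟨a.hom ^ n, isMonHom_pow _ _⟩⟩

@[simp] lemma zero_hom : (0 : EndHom G).hom = 1 := rfl
@[simp] lemma one_hom : (1 : EndHom G).hom = 𝟙 G := rfl
@[simp] lemma add_hom (a b : EndHom G) : (a + b).hom = a.hom * b.hom := rfl
@[simp] lemma neg_hom (a : EndHom G) : (-a).hom = a.hom⁻¹ := rfl
@[simp] lemma sub_hom (a b : EndHom G) : (a - b).hom = a.hom * b.hom⁻¹ := rfl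
@[simp] lemma mul_hom (a b : EndHom G) : (a * b).hom = b.hom ≫ a.hom := rfl
@[simp] lemma nsmul_hom (n : ℕ) (a : EndHom G) : (n • a).hom = a.hom ^ n := rfl

noncomputable instance : Ring (EndHom G) where
  add_assoc a b c := by ext1; simp [_root_.mul_assoc]
  zero_add a := by ext1; simp
  add_zero a := by ext1; simp
  add_comm a b := by ext1; simp [_root_.mul_comm]
  left_distrib a b c := by ext1; simp [MonObj.mul_comp]
  right_distrib a b c := by ext1; simp [MonObj.comp_mul]
  zero_mul a := by ext1; simp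
  mul_zero a := by ext1; simp
  mul_assoc a b c := by ext1; simp
  one_mul a := by ext1; simp
  mul_one a := by ext1; simp
  neg_add_cancel a := by ext1; simp
  sub_eq_add_neg a b := by ext1; simp
  nsmul n a := n • a
  nsmul_zero a := by ext1; simp
  nsmul_succ n a := by ext1; simp [_root_.pow_succ]
  zsmul := zsmulRec

lemma natCast_hom (n : ℕ) : ((n : EndHom G)).hom = (𝟙 G) ^ n := by
  rw [← nsmul_one]; rfl

lemma natCast_mul_hom (n : ℕ) (a : EndHom G) : ((n : EndHom G) * a).hom = a.hom ^ n := by
  rw [mul_hom, natCast_hom, comp_pow, Category.comp_id]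

lemma pow_hom_succ (a : EndHom G) (n : ℕ) : (a ^ (n + 1)).hom = a.hom ≫ (a ^ n).hom := by
  rw [_root_.pow_succ, mul_hom]

end EndHom

end Groth.Agent.Sga7.H758.EndRing
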