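import Groth.Agent.Grpsch.AbEtale
import Groth.Agent.Sga7.H758.EndRing
import Mathlib.AlgebraicGeometry.Morphisms.QuasiFinite
import Mathlib.RingTheory.Unramified.LocalStructure

/-!
# `1 - p s` is unramified in characteristic `p`
-/

set_option autoImplicit false

universe u

open CategoryTheory Limits MonoidalCategory CartesianMonoidalCategory MonObj GrpObj AlgebraicGeometry

namespace Groth.Agent.Sga7.H758.Ramif

open EndRing
open Groth.Agent.Grpsch Groth.Agent.Grpsch.AbRing Groth.Agent.Grpsch.AbTangent Groth.Agent.Grpsch.AbStalk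
  Groth.Agent.Grpsch.AbEtale

variable {K : Type u} [Field K] {G : Over (Spec (.of K))} [GrpObj G]

/-- `τ ≫ (𝟙 · (s ^ p)⁻¹) = τ` for tangent vectors `τ` at the origin if `p = 0` in `K`. -/
theorem comp_one_sub {p : ℕ} (hp : (p : K) = 0) (s : G ⟶ G) [IsMonHom s]
    (τ : specT (K := K) K ⟶ G) (hτ : specT0 K ≫ τ = η[G]) :
    τ ≫ (𝟙 G * (s ^ p)⁻¹) = τ := by
  have h1 : specT0 K ≫ (τ ≫ s) = η[G] := by rw [← Category.assoc, hτ, IsMonHom.one_hom]
  have h2 : (τ ≫ s) ^ p = 1 := by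
    have h3 := zpow_eq_specTmap_zsmul (τ ≫ s) h1 (LinearMap.id : K →ₗ[K] K) (p : ℤ)
    rw [specTmap_id, Category.id_comp, zpow_natCast] at h3
    have h4 : ((p : ℤ) • (LinearMap.id : K →ₗ[K] K)) = 0 := by
      ext
      simp [hp]
    rw [h3, h4, specTmap_zero_comp _ h1]
  rw [comp_mul, Category.comp_id, GrpObj.comp_inv, comp_pow, h2, inv_one, _root_.mul_one]

theorem formallyUnramified_one_sub [IsAlgClosed K] [IsCommMonObj G] [LocallyOfFiniteType G.hom] {p : ℕ}
    (hp : (p : K) = 0) (s : G ⟶ G) [IsMonHom s] : FormallyUnramified (𝟙 G * (s ^ p)⁻¹ : G ⟶ G).left := by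
  have hs : IsMonHom (s ^ p) := isMonHom_pow _ _
  have hs' : IsMonHom (s ^ p)⁻¹ := isMonHom_inv _
  have hf : IsMonHom (𝟙 G * (s ^ p)⁻¹ : G ⟶ G) := isMonHom_mul _ _
  have hlft : LocallyOfFiniteType (𝟙 G * (s ^ p)⁻¹ : G ⟶ G).left := by
    have : LocallyOfFiniteType ((𝟙 G * (s ^ p)⁻¹ : G ⟶ G).left ≫ G.hom) := by rw [Over.w]; infer_instance
    exact locallyOfFiniteType_of_comp _ G.hom
  have : JacobsonSpace G.left := LocallyOfFiniteType.jacobsonSpace G.hom
  refine formallyUnramified_of_stalkMap _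
    (stalkMap_of_origin RingHom.FormallyUnramified.respectsIso (𝟙 G * (s ^ p)⁻¹ : G ⟶ G) ?_)
  refine formallyUnramified_stalkMap (𝟙 G * (s ^ p)⁻¹ : G ⟶ G) η[G] fun τ hτ hτ' => ?_
  rw [comp_one_sub hp s τ hτ] at hτ'
  rw [hτ', IsMonHom.one_hom (𝟙 G * (s ^ p)⁻¹ : G ⟶ G)]

/-- Unramified morphisms are locally quasi-finite. -/
theorem locallyQuasiFinite_of_formallyUnramified {X Y : Scheme.{u}} (g : Y ⟶ X)
    [FormallyUnramified g] [LocallyOfFiniteType g] : LocallyQuasiFinite g where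
  quasiFinite_appLE {U} hU {V} hV e := by
    have h1 := g.finiteType_appLE hU hV e
    have h2 := g.formallyUnramified_appLE hU hV e
    algebraize [(g.appLE U V e).hom]
    exact inferInstanceAs (Algebra.QuasiFinite _ _)

end Groth.Agent.Sga7.H758.Ramif
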