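import Mathlib.Algebra.Ring.Commute
import Mathlib.Data.Nat.Choose.Dvd
import Mathlib.Data.Nat.Choose.Sum
import Mathlib.Algebra.Polynomial.AlgebraMap
import Mathlib.Algebra.Ring.Subring.Basic
import Mathlib.Algebra.Algebra.Subalgebra.Lattice
import Mathlib.GroupTheory.OrderOfElement
import Mathlib.Tactic

/-!
# Serre's lemma: the algebra

`E` a ring without `ℕ`-torsion, `u = 1 + n w` of finite order, `n ≥ 3`.  If `u ≠ 1` there are a prime `l ∣ n` and
elements `x ≠ 0`, `s` (commuting) with `x = l s x`.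
-/

set_option autoImplicit false

namespace Groth.Agent.Sga7.H758.SerreAlg

/-- `(1 + x) ^ q - 1 = x (q + ⋯)`, with the middle terms divisible by `q`. -/
theorem one_add_pow_prime {R : Type*} [CommRing R] (q : ℕ) (hq : q.Prime) (x : R) :
    ∃ t : R, (1 + x) ^ q - 1 = q * x + q * x ^ 2 * t + x ^ q := by
  have h1 : (1 + x) ^ q = ∑ m ∈ Finset.range (q + 1), x ^ m * (q.choose m : R) := by
    rw [add_comm, add_pow]
    refine Finset.sum_congr rfl fun m _ => ?_
    rw [_root_.one_pow, mul_one]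
  have hq2 := hq.two_le
  -- the middle terms
  have hmid : ∀ m ∈ Finset.Ico 2 q, ∃ c : ℕ, q.choose m = q * c := fun m hm => by
    rw [Finset.mem_Ico] at hm
    exact hq.dvd_choose_self (by omega) hm.2
  choose! c hc using hmid
  refine ⟨∑ m ∈ Finset.Ico 2 q, x ^ (m - 2) * (c m : R), ?_⟩
  have h2 : ∑ m ∈ Finset.range (q + 1), x ^ m * (q.choose m : R) =
      1 + q * x + (∑ m ∈ Finset.Ico 2 q, x ^ m * (q.choose m : R)) + x ^ q := by
    rw [Finset.sum_range_succ, Nat.choose_self, Nat.cast_one, mul_one]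
    congr 1
    rw [Finset.range_eq_Ico, ← Finset.sum_Ico_consecutive _ (Nat.zero_le 2) hq2]
    congr 1
    rw [← Finset.range_eq_Ico, Finset.sum_range_succ, Finset.sum_range_one]
    simp [mul_comm]
  rw [h1, h2, Finset.mul_sum]
  have h3 : ∑ m ∈ Finset.Ico 2 q, x ^ m * (q.choose m : R) =
      ∑ m ∈ Finset.Ico 2 q, q * x ^ 2 * (x ^ (m - 2) * (c m : R)) := by
    refine Finset.sum_congr rfl fun m hm => ?_
    rw [hc m hm, Nat.cast_mul]
    have hm2 : 2 ≤ m := (Finset.mem_Ico.mp hm).1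
    have : x ^ m = x ^ 2 * x ^ (m - 2) := by rw [← pow_add]; congr 1; omega
    rw [this]; ring
  rw [h3]; ring

/-- The case of prime order. -/
theorem prime_order {R : Type*} [CommRing R] (htf : ∀ (m : ℕ) (a : R), 0 < m → (m : R) * a = 0 → a = 0)
    (q : ℕ) (hq : q.Prime) (u w : R) (n : ℕ) (hn : 3 ≤ n) (hw : u = 1 + n * w) (huq : u ^ q = 1)
    (hX : ∀ (l : ℕ), l.Prime → l ∣ n → ∀ x s : R, x = l * s * x → x = 0) : u = 1 := by
  set x : R := n * w with hx
  have hux : u = 1 + x := hw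
  obtain ⟨t, ht⟩ := one_add_pow_prime q hq x
  rw [← hux, huq, sub_self] at ht
  have hq2 := hq.two_le
  suffices x = 0 by rw [hux, this, add_zero]
  by_cases hl : ∃ l : ℕ, l.Prime ∧ l ∣ n ∧ l ≠ q
  · obtain ⟨l, hl, hln, hlq⟩ := hl
    obtain ⟨n', rfl⟩ := hln
    -- `q x = l x y`
    have h1 : (q : R) * x = l * (-(n' * w * (q * t + x ^ (q - 2)))) * x := by
      have h2 : x ^ q = x ^ 2 * x ^ (q - 2) := by rw [← pow_add]; congr 1; omega
      rw [h2] at ht
      have h3 : x = l * (n' * w) := by rw [hx]; push_cast; ring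
      have h4 : (q : R) * x = - (x * (q * t + x ^ (q - 2))) * x := by linear_combination -ht
      calc (q : R) * x = - (x * (q * t + x ^ (q - 2))) * x := h4
        _ = - ((l * (n' * w)) * (q * t + x ^ (q - 2))) * x := by rw [← h3]
        _ = _ := by ring
    have hcop : IsCoprime (l : ℤ) (q : ℤ) := by
      rw [Int.isCoprime_iff_gcd_eq_one, Int.gcd_natCast_natCast]
      exact (Nat.coprime_primes hl hq).mpr hlq
    obtain ⟨a, b, hab⟩ := hcop
    have hab' : (a : R) * l + b * q = 1 := by exact_mod_cast congrArg (Int.cast : ℤ → R) hab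
    refine hX l hl (Dvd.intro _ rfl) x (a + b * (-(n' * w * (q * t + x ^ (q - 2))))) ?_
    calc x = ((a : R) * l + b * q) * x := by rw [hab', one_mul]
      _ = a * l * x + b * (q * x) := by ring
      _ = a * l * x + b * (l * (-(n' * w * (q * t + x ^ (q - 2)))) * x) := by rw [h1]
      _ = _ := by ring
  · push Not at hl
    -- `n` is a power of `q`
    have hqn : q ∣ n := by
      obtain ⟨l, hl', hln⟩ := Nat.exists_prime_and_dvd (show n ≠ 1 by omega)
      exact hl l hl' hln ▸ hln
    have hpow : ∃ m : ℕ, n = q ^ m := ⟨_, Nat.eq_prime_pow_of_unique_prime_dvd (by omega)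
      fun {d} hd hdn => hl d hd hdn⟩
    obtain ⟨m, hm⟩ := hpow
    have hm0 : 0 < m := by
      rcases Nat.eq_zero_or_pos m with rfl | h
      · simp at hm; omega
      · exact h
    have hmq : 2 ≤ m * (q - 1) := by
      rcases Nat.lt_or_ge m 2 with h | h
      · have : m = 1 := by omega
        subst this
        rw [pow_one] at hm
        omega
      · calc 2 ≤ m := h
          _ = m * 1 := (mul_one m).symm
          _ ≤ m * (q - 1) := Nat.mul_le_mul_left m (by omega)
    -- `q ^ 2 ∣ n ^ (q - 1)`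
    obtain ⟨r, hr⟩ : q ^ 2 ∣ n ^ (q - 1) := by
      rw [hm, ← pow_mul]
      exact pow_dvd_pow q hmq
    obtain ⟨n', hn'⟩ := hqn
    have h2 : x ^ q = x ^ (q - 1) * x := by rw [← pow_succ]; congr 1; omega
    have h3 : x ^ (q - 1) = q ^ 2 * (r * w ^ (q - 1)) := by
      rw [hx, mul_pow]
      have : ((n : R)) ^ (q - 1) = q ^ 2 * r := by exact_mod_cast congrArg (Nat.cast : ℕ → R) hr
      rw [this]; ring
    have h4 : x = q * (n' * w) := by rw [hx, hn']; push_cast; ring
    -- `q (x + q s x) = 0`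
    have h5 : (q : R) * (x + q * ((n' * w) * t + r * w ^ (q - 1)) * x) = 0 := by
      rw [h2, h3] at ht
      have h6 : (q : R) * x ^ 2 * t = q * (q * (n' * w) * t) * x := by
        calc (q : R) * x ^ 2 * t = q * (x * t) * x := by ring
          _ = q * ((q * (n' * w)) * t) * x := by rw [← h4]
          _ = _ := by ring
      rw [h6] at ht
      linear_combination -ht
    have h6 := htf q _ hq.pos h5
    refine hX q hq ⟨n', hn'⟩ x (-((n' * w) * t + r * w ^ (q - 1))) ?_
    linear_combination h6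

/-- Serre's lemma, commutative case. -/
theorem serre_comm {R : Type*} [CommRing R] (htf : ∀ (m : ℕ) (a : R), 0 < m → (m : R) * a = 0 → a = 0)
    (u w : R) (n : ℕ) (hn : 3 ≤ n) (hw : u = 1 + n * w) (N : ℕ) (hN : 0 < N) (huN : u ^ N = 1)
    (hX : ∀ (l : ℕ), l.Prime → l ∣ n → ∀ x s : R, x = l * s * x → x = 0) : u = 1 := by
  by_contra hu
  -- a power of prime order
  have hfin : IsOfFinOrder u := isOfFinOrder_iff_pow_eq_one.mpr ⟨N, hN, huN⟩
  have hord : orderOf u ≠ 1 := fun h => hu (orderOf_eq_one_iff.mp h)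
  obtain ⟨q, hq, hqd⟩ := Nat.exists_prime_and_dvd hord
  obtain ⟨M, hM⟩ := hqd
  have hM0 : M ≠ 0 := by
    rintro rfl
    have := hfin.orderOf_pos
    omega
  have hv : (u ^ M) ^ q = 1 := by rw [← pow_mul, mul_comm M q, ← hM, pow_orderOf_eq_one]
  have hv1 : u ^ M ≠ 1 := by
    intro h
    have h1 := orderOf_dvd_of_pow_eq_one h
    have h2 := Nat.le_of_dvd (Nat.pos_of_ne_zero hM0) h1
    rw [hM] at h2
    have h3 : 2 * M ≤ q * M := Nat.mul_le_mul_right M hq.two_le
    omega
  refine hv1 ?_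
  have h3 : u ^ M = 1 + n * (w * ∑ i ∈ Finset.range M, u ^ i) := by
    have := mul_geom_sum u M
    have h4 : u - 1 = n * w := by rw [hw]; ring
    rw [h4] at this
    linear_combination -this
  exact prime_order htf q hq _ _ n hn h3 hv hX

/-- Serre's lemma in a ring without torsion. -/
theorem serre {E : Type*} [Ring E] (htf : ∀ (m : ℕ) (a : E), 0 < m → (m : E) * a = 0 → a = 0)
    (u w : E) (n : ℕ) (hn : 3 ≤ n) (hw : u = 1 + n * w) (N : ℕ) (hN : 0 < N) (huN : u ^ N = 1)
    (hX : ∀ (l : ℕ), l.Prime → l ∣ n → ∀ x s : E, Commute x s → x = l * s * x → x = 0) : u = 1 := by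
  let A : Subalgebra ℤ E := Algebra.adjoin ℤ {w}
  letI : CommRing A := Algebra.adjoinCommRingOfComm ℤ (fun a ha b hb => by
    rw [Set.mem_singleton_iff] at ha hb
    rw [ha, hb])
  let w' : A := ⟨w, Algebra.subset_adjoin rfl⟩
  let u' : A := 1 + n * w'
  have hval : ∀ a b : A, a = b ↔ (a : E) = b := fun a b => Subtype.ext_iff
  have hu' : (u' : E) = u := by
    rw [hw]; rfl
  have key : u' = 1 := by
    refine serre_comm (fun m a hm h => ?_) u' w' n hn rfl N hN ?_ ?_
    · rw [hval] at h ⊢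
      exact htf m a hm h
    · rw [hval]
      change (u' : E) ^ N = 1
      rw [hu', huN]
    · intro l hl hln x s hx
      rw [hval] at hx ⊢
      refine hX l hl hln x s ?_ hx
      have : x * s = s * x := mul_comm x s
      exact (hval _ _).mp this
  rw [← hu', key]; rfl

/-- Serre's lemma for `n = 2`. -/
theorem serre_two {E : Type*} [Ring E] (htf : ∀ (m : ℕ) (a : E), 0 < m → (m : E) * a = 0 → a = 0)
    (u w : E) (hw : u = 1 + (2 : ℕ) * w) (N : ℕ) (hN : 0 < N) (huN : u ^ N = 1)
    (hX : ∀ (l : ℕ), l.Prime → l ∣ 2 → ∀ x s : E, Commute x s → x = l * s * x → x = 0) : u * u = 1 := by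
  refine serre htf (u * u) (w + w * w) 4 (by norm_num) ?_ N hN ?_ ?_
  · rw [hw]; push_cast; noncomm_ring
  · rw [← pow_two, ← pow_mul, mul_comm, pow_mul, huN, one_pow]
  · intro l hl hl4
    refine hX l hl ?_
    exact hl.dvd_of_dvd_pow (n := 2) (by norm_num; exact hl4)

end Groth.Agent.Sga7.H758.SerreAlg
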