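import Groth.Agent.Sga7.H758.FfEpi
import Groth.Agent.Sga7.H758.SerreAlg
import Mathlib.CategoryTheory.Endomorphism

/-!
# Serre's lemma for commutative group schemes, from two geometric inputs

`serre_over`: `G` a commutative `S`-group with `[m]` faithfully flat and quasi-compact for all `m ≥ 1`, such that
`x = l s x` implies `x = 0` for commuting endomorphisms `x`, `s` and primes `l`.  Then Serre's lemma holds for `G`.
-/

set_option autoImplicit false

universe u

open CategoryTheory Limits MonoidalCategory CartesianMonoidalCategory MonObj GrpObj AlgebraicGeometry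

namespace Groth.Agent.Sga7.H758.SerreOver

open EndRing FfEpi

variable {S : Scheme.{u}} {G : Over S} [GrpObj G] [IsCommMonObj G]

/-- the endomorphism attached to an automorphism. -/
def ofAut (u : Aut G) [h : IsMonHom u.hom] : EndHom G := ⟨u.hom, h⟩

lemma aut_pow_hom (u : Aut G) [IsMonHom u.hom] (N : ℕ) : (u ^ N).hom = ((ofAut u) ^ N).hom := by
  induction N with
  | zero => rfl
  | succ N ih =>
    rw [_root_.pow_succ, EndHom.pow_hom_succ, ← ih]
    rfl

theorem serre_over
    (hF : ∀ m : ℕ, 0 < m → QuasiCompact ((𝟙 G : G ⟶ G) ^ m).left ∧ Surjective ((𝟙 G : G ⟶ G) ^ m).left ∧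
      Flat ((𝟙 G : G ⟶ G) ^ m).left)
    (n : ℕ) (hn : 2 ≤ n)
    (hX : ∀ l : ℕ, l.Prime → l ∣ n → ∀ x s : EndHom G, Commute x s → x = l * s * x → x = 0)
    (u : Aut G) [IsMonHom u.hom] (N : ℕ) (hN : 0 < N) (huN : u ^ N = 1)
    (hu : ∀ (T : Over S) (x : T ⟶ G), x ^ n = 1 → x ≫ u.hom = x) :
    (3 ≤ n → u = 1) ∧ (n = 2 → u * u = 1) := by
  have htf : ∀ (m : ℕ) (a : EndHom G), 0 < m → (m : EndHom G) * a = 0 → a = 0 := by
    intro m a hm h
    obtain ⟨h1, h2, h3⟩ := hF m hm
    exact nsmul_eq_zero m a h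
  set v : EndHom G := ofAut u with hv
  have hvN : v ^ N = 1 := by
    ext1
    rw [hv, ← aut_pow_hom, huN]
    rfl
  obtain ⟨w, hw⟩ : ∃ w : EndHom G, v - 1 = n * w := by
    obtain ⟨h1, h2, h3⟩ := hF n (by omega)
    refine exists_eq_nsmul n (v - 1) fun T a ha => ?_
    rw [EndHom.sub_hom, comp_mul, GrpObj.comp_inv, EndHom.one_hom, Category.comp_id]
    change (a ≫ u.hom) * a⁻¹ = 1
    rw [hu T a ha, mul_inv_cancel]
  have hw' : v = 1 + n * w := by rw [← hw]; abel
  refine ⟨fun h3 => ?_, fun h2 => ?_⟩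
  · have h := SerreAlg.serre htf v w n h3 hw' N hN hvN hX
    apply Iso.ext
    exact congrArg EndHom.hom h
  · subst h2
    have h := SerreAlg.serre_two htf v w hw' N hN hvN hX
    apply Iso.ext
    exact congrArg EndHom.hom h

end Groth.Agent.Sga7.H758.SerreOver
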