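import Groth.Agent.Sga7.H758.FieldHom
import Groth.Agent.Sga7.H758.Ramif
import Groth.Agent.Sga7.H758.SerreOver
import Groth.Agent.Books.AntiAffine
import Groth.Agent.S0355
import Groth.Prelude.Def_SGA7IX

/-!
# Serre's lemma over an algebraically closed field

The only input is `TorsionInput K`: a commutative group scheme of finite type over the algebraically closed field `K`
without closed subgroup isomorphic to the additive group and without nontrivial `l`-torsion points, `l` a prime
different from the characteristic, is finite.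
-/

set_option autoImplicit false

universe u

open CategoryTheory Limits MonoidalCategory CartesianMonoidalCategory MonObj GrpObj AlgebraicGeometry

namespace Groth.Agent.Sga7.H758.AlgClosed

open EndRing FieldHom

/-- `G` contains no closed subgroup isomorphic to the additive group. -/
def NoGa (K : Type u) [Field K] (G : Over (Spec (CommRingCat.of K))) [GrpObj G] : Prop :=
  ∀ j : Red.Ga (Spec (CommRingCat.of K)) ⟶ G, IsMonHom j → IsClosedImmersion j.left → False

/-- The input from the structure theory of commutative algebraic groups. -/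
def TorsionInput (K : Type u) [Field K] : Prop :=
  ∀ (A : Over (Spec (CommRingCat.of K))) [GrpObj A] [IsCommMonObj A] [LocallyOfFiniteType A.hom]
    [QuasiCompact A.hom], NoGa K A → ∀ l : ℕ, l.Prime → (l : K) ≠ 0 →
      (∀ x : 𝟙_ (Over (Spec (CommRingCat.of K))) ⟶ A, x ^ l = 1 → x = 1) → IsFinite A.hom

variable {K : Type u} [Field K]

lemma NoGa.of_closedImmersion {F G : Over (Spec (CommRingCat.of K))} [GrpObj F] [GrpObj G] (hG : NoGa K G)
    (i : F ⟶ G) [IsMonHom i] [IsClosedImmersion i.left] : NoGa K F := by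
  intro j hj hj'
  refine hG (j ≫ i) inferInstance ?_
  rw [Over.comp_left]
  infer_instance

lemma isCommMonObj_of_mono {C : Type*} [Category C] [CartesianMonoidalCategory C] [BraidedCategory C]
    {F G : C} [MonObj F] [MonObj G] [IsCommMonObj G] (i : F ⟶ G) [IsMonHom i] [Mono i] :
    IsCommMonObj F := by
  refine ⟨?_⟩
  rw [← cancel_mono i, Category.assoc, IsMonHom.mul_hom, ← Category.assoc,
    ← BraidedCategory.braiding_naturality, Category.assoc, IsCommMonObj.mul_comm]

lemma eq_one_of_coprime {M : Type*} [Group M] {l m : ℕ} (hl : l.Prime) (hm : 0 < m) (h : m < l) (x : M)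
    (h1 : x ^ l = 1) (h2 : x ^ m = 1) : x = 1 := by
  have hcop : Nat.Coprime l m :=
    (Nat.Prime.coprime_iff_not_dvd hl).mpr fun h3 => absurd (Nat.le_of_dvd hm h3) (by omega)
  have h3 := Nat.dvd_gcd (orderOf_dvd_of_pow_eq_one h1) (orderOf_dvd_of_pow_eq_one h2)
  rw [hcop] at h3
  exact orderOf_eq_one_iff.mp (Nat.dvd_one.mp h3)

/-- Kernels of endomorphisms. -/
theorem exists_ker {G : Over (Spec (CommRingCat.of K))} [GrpObj G] [IsCommMonObj G] [LocallyOfFiniteType G.hom]
    [QuasiCompact G.hom] (f : G ⟶ G) [IsMonHom f] :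
    ∃ (F : Over (Spec (CommRingCat.of K))) (_ : GrpObj F) (i : F ⟶ G), IsMonHom i ∧ IsClosedImmersion i.left ∧
      IsPullback i (toUnit F) f η[G] ∧ IsCommMonObj F ∧ LocallyOfFiniteType F.hom ∧ QuasiCompact F.hom ∧
      IsSeparated F.hom := by
  obtain ⟨F, hF, i, hi, hpb⟩ := Groth.Agent.Grpsch.KerMul.exists_kernel f
  have hsep : IsSeparated G.hom := Books.AntiAffine.isSeparated_hom G
  have hη : IsClosedImmersion (η[G] : 𝟙_ (Over (Spec (CommRingCat.of K))) ⟶ G).left := by
    have h1 : (η[G] : 𝟙_ (Over (Spec (CommRingCat.of K))) ⟶ G).left ≫ G.hom = 𝟙 _ := Over.w _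
    have h2 : IsClosedImmersion ((η[G] : 𝟙_ (Over (Spec (CommRingCat.of K))) ⟶ G).left ≫ G.hom) := by
      rw [h1]; infer_instance
    exact IsClosedImmersion.of_comp _ G.hom
  have hcl : IsClosedImmersion i.left :=
    MorphismProperty.of_isPullback (P := @IsClosedImmersion) (isPullback_left f i hpb).flip hη
  have hmono : Mono i := by
    have : Mono i.left := inferInstance
    exact Functor.mono_of_mono_map (Over.forget _) this
  have h3 : i.left ≫ G.hom = F.hom := Over.w i
  refine ⟨F, hF, i, hi, hcl, hpb, isCommMonObj_of_mono i, ?_, ?_, ?_⟩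
  · rw [← h3]; infer_instance
  · rw [← h3]; infer_instance
  · rw [← h3]; infer_instance

section

variable [IsAlgClosed K] (hT : TorsionInput K) {G : Over (Spec (CommRingCat.of K))} [GrpObj G] [IsCommMonObj G]
  [Smooth G.hom] [ConnectedSpace G.left] (hG : NoGa K G)

omit [IsAlgClosed K] [IsCommMonObj G] in
include hG in
theorem quasiCompact_hom : QuasiCompact G.hom := by
  have h1 := (S0355.result K G).2
  have h2 : connectedComponent ((η[G] : 𝟙_ (Over (Spec (CommRingCat.of K))) ⟶ G).left
      (IsLocalRing.closedPoint K)) = Set.univ := PreconnectedSpace.connectedComponent_eq_univ _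
  rw [h2] at h1
  have h3 : CompactSpace G.left := ⟨h1⟩
  exact (quasiCompact_iff_compactSpace G.hom).mpr h3

include hT hG in
/-- `[m]` is finite, surjective and flat. -/
theorem flat_surjective_pow (m : ℕ) (hm : 0 < m) : QuasiCompact ((𝟙 G : G ⟶ G) ^ m).left ∧
    Surjective ((𝟙 G : G ⟶ G) ^ m).left ∧ Flat ((𝟙 G : G ⟶ G) ^ m).left := by
  have hqc : QuasiCompact G.hom := quasiCompact_hom hG
  have hmon : IsMonHom ((𝟙 G : G ⟶ G) ^ m) := isMonHom_pow _ _
  obtain ⟨F, _, i, hi, hcl, hpb, hcomm, hlft, hFqc, hFs⟩ := exists_ker ((𝟙 G : G ⟶ G) ^ m)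
  -- a prime `l` prime to `m` and different from the characteristic
  obtain ⟨l, hl, hlp⟩ := Nat.exists_infinite_primes (m + ringChar K + 1)
  have hlK : (l : K) ≠ 0 := by
    intro h
    have h1 := (ringChar.spec K l).mp h
    rcases (Nat.dvd_prime hlp).mp h1 with h2 | h2
    · exact CharP.ringChar_ne_one h2
    · omega
  have hmono : Mono i := by
    have : Mono i.left := inferInstance
    exact Functor.mono_of_mono_map (Over.forget _) this
  have hfin : IsFinite F.hom := by
    refine hT F (hG.of_closedImmersion i) l hlp hlK fun x hx => ?_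
    have h1 : x ^ m = 1 := by
      rw [← cancel_mono i, MonObj.one_comp, MonObj.pow_comp]
      have h2 := x ≫= hpb.w
      rw [comp_pow, comp_pow, Category.comp_id] at h2
      rw [h2, ← Category.assoc, one_eq_one, comp_one]
    exact eq_one_of_coprime hlp hm (by omega) x hx h1
  have hqcf : QuasiCompact ((𝟙 G : G ⟶ G) ^ m).left := by
    have : QuasiCompact (((𝟙 G : G ⟶ G) ^ m).left ≫ G.hom) := by rw [Over.w]; infer_instance
    have : IsSeparated G.hom := Books.AntiAffine.isSeparated_hom G
    exact QuasiCompact.of_comp _ G.hom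
  obtain ⟨h1, h2, h3⟩ := surjective_flat_of_isFinite_ker ((𝟙 G : G ⟶ G) ^ m) i hpb
  exact ⟨hqcf, h2, h3⟩

include hT hG in
/-- `x = l s x` implies `x = 0`. -/
theorem eq_zero_of_eq (l : ℕ) (hl : l.Prime) (x s : EndHom G) (hxs : x = l * s * x) : x = 0 := by
  have hqc : QuasiCompact G.hom := quasiCompact_hom hG
  have hred : IsReduced G.left := Flat2B.SmoothGeom.isReduced_of_smooth G.hom
  let f : EndHom G := 1 - l * s
  have hfx : x.hom ≫ f.hom = 1 := by
    have h1 : f * x = 0 := by rw [sub_mul, _root_.one_mul, ← hxs, sub_self]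
    exact congrArg EndHom.hom h1
  have hf : f.hom = 𝟙 G * (s.hom ^ l)⁻¹ := by
    rw [EndHom.sub_hom, EndHom.one_hom, EndHom.natCast_mul_hom]
  obtain ⟨F, _, i, hi, hcl, hpb, hcomm, hlft, hFqc, hFs⟩ := exists_ker f.hom
  have hmono : Mono i := by
    have : Mono i.left := inferInstance
    exact Functor.mono_of_mono_map (Over.forget _) this
  have hlqf : LocallyQuasiFinite F.hom := by
    by_cases hlK : (l : K) = 0
    · have h1 : FormallyUnramified f.hom.left := by
        rw [hf]
        exact Ramif.formallyUnramified_one_sub hlK s.hom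
      have h2 : LocallyOfFiniteType f.hom.left := by
        have : LocallyOfFiniteType (f.hom.left ≫ G.hom) := by rw [Over.w]; infer_instance
        exact locallyOfFiniteType_of_comp _ G.hom
      have h3 : LocallyQuasiFinite f.hom.left := Ramif.locallyQuasiFinite_of_formallyUnramified _
      exact MorphismProperty.of_isPullback (P := @LocallyQuasiFinite) (isPullback_left f.hom i hpb) h3
    · have : IsFinite F.hom := by
        refine hT F (hG.of_closedImmersion i) l hl hlK fun y hy => ?_
        rw [← cancel_mono i, MonObj.one_comp]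
        have h1 : (y ≫ i) ^ l = 1 := by rw [← MonObj.pow_comp, hy, MonObj.one_comp]
        have h2 : (y ≫ i) ≫ f.hom = 1 := by
          rw [Category.assoc, hpb.w, ← Category.assoc, one_eq_one, comp_one]
        rw [hf, comp_mul, GrpObj.comp_inv, Category.comp_id, comp_pow, ← MonObj.pow_comp, h1,
          MonObj.one_comp, inv_one, _root_.mul_one] at h2
        exact h2
      infer_instance
  let y : G ⟶ F := hpb.lift x.hom (toUnit G) (by rw [hfx, Hom.one_def])
  have hy : y ≫ i = x.hom := hpb.lift_fst _ _ _
  have h5 := eq_const (η[G]) y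
  ext1
  rw [← hy, h5, Category.assoc, Category.assoc, hy, IsMonHom.one_hom, EndHom.zero_hom, Hom.one_def]

include hT hG in
/-- Serre's lemma over an algebraically closed field. -/
theorem serre (n : ℕ) (hn : 2 ≤ n) (u : Aut G) (_ : IsMonHom u.hom) (N : ℕ) (hN : 0 < N) (huN : u ^ N = 1)
    (hu : ∀ (T : Over (Spec (CommRingCat.of K))) (x : T ⟶ G), x ^ n = 1 → x ≫ u.hom = x) :
    (3 ≤ n → u = 1) ∧ (n = 2 → u * u = 1) :=
  SerreOver.serre_over (fun m hm => flat_surjective_pow hT hG m hm) n hn
    (fun l hl _ x s _ h => eq_zero_of_eq hT hG l hl x s h) u N hN huN hu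

end

end Groth.Agent.Sga7.H758.AlgClosed
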