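import Groth.Agent.Sga7.H758.EndRing
import Mathlib.AlgebraicGeometry.Sites.Fpqc
import Mathlib.CategoryTheory.Monoidal.Cartesian.Over
import Mathlib.AlgebraicGeometry.Group.Abelian

/-!
# Faithfully flat homomorphisms are epimorphisms; factorization through `[n]`
-/

set_option autoImplicit false

universe u

open CategoryTheory Limits MonoidalCategory CartesianMonoidalCategory MonObj GrpObj AlgebraicGeometry

namespace Groth.Agent.Sga7.H758.FfEpi

open EndRing

variable {S : Scheme.{u}}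

theorem over_epi {A B : Over S} (f : A ⟶ B) [Surjective f.left] [Flat f.left] : Epi f := by
  have : Epi f.left := Flat.epi_of_flat_of_surjective _
  exact ⟨fun g h e => by
    ext1
    rw [← cancel_epi f.left]
    exact congrArg (fun t => t.left) e⟩

/-- A morphism which identifies points identified by the faithfully flat quasi-compact morphism `f` factors
through `f`. -/
theorem exists_factor {A B D : Over S} (f : A ⟶ B) [QuasiCompact f.left] [Surjective f.left] [Flat f.left]
    (x : A ⟶ D) (h : ∀ {T : Over S} (a b : T ⟶ A), a ≫ f = b ≫ f → a ≫ x = b ≫ x) :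
    ∃ w : B ⟶ D, f ≫ w = x := by
  have he : EffectiveEpi f.left := inferInstance
  have hepi : Epi f.left := Flat.epi_of_flat_of_surjective _
  have key : ∀ {Z : Scheme.{u}} (g₁ g₂ : Z ⟶ A.left), g₁ ≫ f.left = g₂ ≫ f.left →
      g₁ ≫ x.left = g₂ ≫ x.left := by
    intro Z g₁ g₂ hg
    have hs : g₁ ≫ A.hom = g₂ ≫ A.hom := by
      rw [← Over.w f, reassoc_of% hg]
    let a : Over.mk (g₁ ≫ A.hom) ⟶ A := Over.homMk g₁ rfl
    let b : Over.mk (g₁ ≫ A.hom) ⟶ A := Over.homMk g₂ hs.symm
    have hab := h a b (by ext1; exact hg)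
    exact congrArg (fun t => t.left) hab
  let w : B.left ⟶ D.left := EffectiveEpi.desc f.left x.left (fun g₁ g₂ hg => key g₁ g₂ hg)
  have hw : f.left ≫ w = x.left := EffectiveEpi.fac f.left x.left (fun g₁ g₂ hg => key g₁ g₂ hg)
  refine ⟨Over.homMk w ?_, ?_⟩
  · rw [← cancel_epi f.left, reassoc_of% hw, Over.w, Over.w]
  · ext1
    exact hw

theorem isPullback_whiskerRight {C : Type*} [Category C] [CartesianMonoidalCategory C] {X Y : C} (f : X ⟶ Y)
    (Z : C) : IsPullback (f ▷ Z) (fst X Z) (fst Y Z) f := by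
  refine ⟨⟨by simp⟩, ⟨PullbackCone.IsLimit.mk _ (fun s => lift s.snd (s.fst ≫ snd _ _)) ?_ ?_ ?_⟩⟩
  · intro s
    ext1
    · simp [s.condition]
    · simp
  · intro s; simp
  · intro s m h₁ h₂
    ext1
    · simp [h₂]
    · simp [← h₁]

theorem isPullback_whiskerLeft {C : Type*} [Category C] [CartesianMonoidalCategory C] {X Y : C} (f : X ⟶ Y)
    (Z : C) : IsPullback (Z ◁ f) (snd Z X) (snd Z Y) f := by
  refine ⟨⟨by simp⟩, ⟨PullbackCone.IsLimit.mk _ (fun s => lift (s.fst ≫ fst _ _) s.snd) ?_ ?_ ?_⟩⟩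
  · intro s
    ext1
    · simp
    · simp [s.condition]
  · intro s; simp
  · intro s m h₁ h₂
    ext1
    · simp [← h₁]
    · simp [h₂]

theorem whiskerRight_left_mem (P : MorphismProperty Scheme.{u}) [P.IsStableUnderBaseChange]
    {X Y : Over S} (f : X ⟶ Y) (Z : Over S) (h : P f.left) : P (f ▷ Z).left :=
  MorphismProperty.of_isPullback ((isPullback_whiskerRight f Z).map (Over.forget _)).flip h

theorem whiskerLeft_left_mem (P : MorphismProperty Scheme.{u}) [P.IsStableUnderBaseChange]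
    {X Y : Over S} (f : X ⟶ Y) (Z : Over S) (h : P f.left) : P (Z ◁ f).left :=
  MorphismProperty.of_isPullback ((isPullback_whiskerLeft f Z).map (Over.forget _)).flip h

theorem epi_tensor {A B : Over S} (f : A ⟶ B) [Surjective f.left] [Flat f.left] : Epi (f ⊗ₘ f) := by
  have h1 : Surjective (f ▷ A).left := whiskerRight_left_mem @Surjective f A inferInstance
  have h2 : Flat (f ▷ A).left := whiskerRight_left_mem @Flat f A inferInstance
  have h3 : Surjective (B ◁ f).left := whiskerLeft_left_mem @Surjective f B inferInstance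
  have h4 : Flat (B ◁ f).left := whiskerLeft_left_mem @Flat f B inferInstance
  have h5 := over_epi (f ▷ A)
  have h6 := over_epi (B ◁ f)
  rw [MonoidalCategory.tensorHom_def]
  exact epi_comp _ _

/-- if `f` is a faithfully flat homomorphism and `f ≫ w` is a homomorphism, so is `w`. -/
theorem isMonHom_of_comp {A B D : Over S} [GrpObj A] [GrpObj B] [GrpObj D] (f : A ⟶ B) [IsMonHom f]
    [Surjective f.left] [Flat f.left] (w : B ⟶ D) (h : IsMonHom (f ≫ w)) : IsMonHom w := by
  have := epi_tensor f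
  refine ⟨?_, ?_⟩
  · have h1 := h.one_hom
    rwa [← Category.assoc, IsMonHom.one_hom f] at h1
  · rw [← cancel_epi (f ⊗ₘ f), ← Category.assoc, ← IsMonHom.mul_hom f, Category.assoc,
      IsMonHom.mul_hom (f ≫ w), ← Category.assoc, MonoidalCategory.tensorHom_comp_tensorHom]

section

variable {G : Over S} [GrpObj G] [IsCommMonObj G]

/-- an endomorphism killing the `n`-torsion is divisible by `n`, if `[n]` is faithfully flat. -/
theorem exists_eq_nsmul (n : ℕ) [QuasiCompact ((𝟙 G : G ⟶ G) ^ n).left]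
    [Surjective ((𝟙 G : G ⟶ G) ^ n).left] [Flat ((𝟙 G : G ⟶ G) ^ n).left] (x : EndHom G)
    (h : ∀ (T : Over S) (a : T ⟶ G), a ^ n = 1 → a ≫ x.hom = 1) : ∃ w : EndHom G, x = n * w := by
  have hn : IsMonHom ((𝟙 G : G ⟶ G) ^ n) := isMonHom_pow _ _
  obtain ⟨w, hw⟩ := exists_factor ((𝟙 G : G ⟶ G) ^ n) x.hom (fun {T} a b hab => by
    rw [comp_pow, comp_pow, Category.comp_id, Category.comp_id] at hab
    have h1 : (a * b⁻¹) ^ n = 1 := by
      rw [mul_pow, hab, ← mul_pow, mul_inv_cancel, _root_.one_pow]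
    have h2 := h T _ h1
    rw [MonObj.mul_comp, GrpObj.inv_comp] at h2
    exact mul_inv_eq_one.mp h2)
  have hwm : IsMonHom w := isMonHom_of_comp ((𝟙 G : G ⟶ G) ^ n) w (by rw [hw]; infer_instance)
  refine ⟨⟨w, hwm⟩, ?_⟩
  ext1
  rw [EndHom.natCast_mul_hom, ← hw, MonObj.pow_comp, Category.id_comp]

theorem nsmul_eq_zero (n : ℕ) [Surjective ((𝟙 G : G ⟶ G) ^ n).left] [Flat ((𝟙 G : G ⟶ G) ^ n).left]
    (a : EndHom G) (h : (n : EndHom G) * a = 0) : a = 0 := by
  have := over_epi ((𝟙 G : G ⟶ G) ^ n)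
  ext1
  rw [EndHom.zero_hom, ← cancel_epi ((𝟙 G : G ⟶ G) ^ n), MonObj.pow_comp, Category.id_comp, comp_one]
  have h1 := congrArg EndHom.hom h
  rwa [EndHom.natCast_mul_hom, EndHom.zero_hom] at h1

end

end Groth.Agent.Sga7.H758.FfEpi
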